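import Mathlib
import Cfsg.Agent.Lib.Helper19.SPU.Defs
import Cfsg.Agent.Lib.Helper40.Fitting

/-!
# SPU (S2316), package [LAG]

`PkgLagDec → PkgLag`: the double count
`cT (J k) * |GL_k| = cI (J k) * #nilpotent k×k`.
-/

set_option autoImplicit false

namespace Cfsg.Agent.Lib.Helper73.SPU

open Matrix Cfsg.Agent.Lib.Helper19.SPU Cfsg.Agent.Lib.Helper40

universe u

section

variable {F : Type u} [Field F]

theorem isom_mul_h73 {n : Type} [Fintype n] [DecidableEq n] {K P R : Matrix n n F}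
    (hP : Isom K P) (hR : Isom K R) : Isom K (P * R) := by
  unfold Isom at *
  calc (P * R)ᵀ * K * (P * R) = Rᵀ * (Pᵀ * K * P) * R := by
        simp only [Matrix.transpose_mul, Matrix.mul_assoc]
    _ = K := by rw [hP, hR]

theorem isom_of_mul_eq_one_h73 {n : Type} [Fintype n] [DecidableEq n] {K P R : Matrix n n F}
    (hP : Isom K P) (h1 : P * R = 1) : Isom K R := by
  unfold Isom at *
  calc Rᵀ * K * R = Rᵀ * (Pᵀ * K * P) * R := by rw [hP]
    _ = (P * R)ᵀ * K * (P * R) := by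
        simp only [Matrix.transpose_mul, Matrix.mul_assoc]
    _ = K := by rw [h1]; simp

theorem affA_of_semiconj_h73 {n : Type} [Fintype n] [DecidableEq n] {K X P R D : Matrix n n F}
    (hP : Isom K P) (hPR : P * R = 1) (hD : AffA K D) (h : X * P = P * D) : AffA K X := by
  unfold AffA Isom at *
  have key : Pᵀ * (Xᵀ * K + K * X + K) * P = 0 := by
    calc Pᵀ * (Xᵀ * K + K * X + K) * P
        = (X * P)ᵀ * K * P + Pᵀ * K * (X * P) + Pᵀ * K * P := by
          simp only [Matrix.transpose_mul, Matrix.mul_add, Matrix.add_mul, Matrix.mul_assoc]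
      _ = Dᵀ * (Pᵀ * K * P) + (Pᵀ * K * P) * D + Pᵀ * K * P := by
          rw [h]; simp only [Matrix.transpose_mul, Matrix.mul_assoc]
      _ = 0 := by rw [hP, hD]
  have h1 : Rᵀ * Pᵀ = 1 := by rw [← Matrix.transpose_mul, hPR]; simp
  have e : Rᵀ * (Pᵀ * (Xᵀ * K + K * X + K) * P) * R =
      (Rᵀ * Pᵀ) * (Xᵀ * K + K * X + K) * (P * R) := by
    simp only [Matrix.mul_assoc]
  rw [key, h1, hPR] at e
  simpa using e.symm

theorem nilp_of_semiconj_h73 {n : Type} [Fintype n] [DecidableEq n] {X P R D : Matrix n n F}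
    (hPR : P * R = 1) (hD : IsNilpotent (D * D + D)) (h : X * P = P * D) :
    IsNilpotent (X * X + X) := by
  obtain ⟨i, hi⟩ := hD
  have h2 : (X * X + X) * P = P * (D * D + D) := by
    rw [Matrix.add_mul, Matrix.mul_add, Matrix.mul_assoc, h, ← Matrix.mul_assoc, h,
      Matrix.mul_assoc]
  have h3 : (X * X + X) ^ i * P = P * (D * D + D) ^ i := by
    have : SemiconjBy P (D * D + D) (X * X + X) := h2.symm
    exact (this.pow_right i).eq.symm
  refine ⟨i, ?_⟩
  have : (X * X + X) ^ i * (P * R) = 0 := by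
    rw [← Matrix.mul_assoc, h3, hi]; simp
  rwa [hPR, Matrix.mul_one] at this

variable {k : ℕ}

/-- the block matrix `diag(N, -1 - Nᵀ)` -/
def lagD (N : Matrix (Fin k) (Fin k) F) : Matrix (Fin k ⊕ Fin k) (Fin k ⊕ Fin k) F :=
  Matrix.fromBlocks N 0 0 (-1 - Nᵀ)

/-- the inverse of an isometry of `J` -/
def isoInv (P : Matrix (Fin k ⊕ Fin k) (Fin k ⊕ Fin k) F) :
    Matrix (Fin k ⊕ Fin k) (Fin k ⊕ Fin k) F :=
  -(Matrix.J (Fin k) F) * Pᵀ * Matrix.J (Fin k) F

theorem isoInv_mul {P : Matrix (Fin k ⊕ Fin k) (Fin k ⊕ Fin k) F}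
    (h : Isom (Matrix.J (Fin k) F) P) : isoInv P * P = 1 := by
  unfold isoInv
  have h' : Pᵀ * Matrix.J (Fin k) F * P = Matrix.J (Fin k) F := h
  calc -(Matrix.J (Fin k) F) * Pᵀ * Matrix.J (Fin k) F * P
      = -(Matrix.J (Fin k) F * (Pᵀ * Matrix.J (Fin k) F * P)) := by
        simp only [Matrix.mul_assoc, Matrix.neg_mul]
    _ = 1 := by rw [h', Matrix.J_squared]; simp

theorem mul_isoInv {P : Matrix (Fin k ⊕ Fin k) (Fin k ⊕ Fin k) F}
    (h : Isom (Matrix.J (Fin k) F) P) : P * isoInv P = 1 :=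
  mul_eq_one_comm.mp (isoInv_mul h)

theorem affA_lagD (N : Matrix (Fin k) (Fin k) F) : AffA (Matrix.J (Fin k) F) (lagD N) := by
  unfold AffA lagD Matrix.J
  rw [Matrix.fromBlocks_transpose, Matrix.fromBlocks_multiply, Matrix.fromBlocks_multiply,
    Matrix.fromBlocks_add, Matrix.fromBlocks_add, ← Matrix.fromBlocks_zero,
    Matrix.fromBlocks_inj]
  refine ⟨by simp, ?_, ?_, by simp⟩
  · simp only [Matrix.transpose_zero, Matrix.mul_zero, Matrix.zero_mul, add_zero, zero_add,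
      Matrix.mul_neg, Matrix.mul_one, Matrix.neg_mul, Matrix.one_mul]
    abel
  · simp only [Matrix.transpose_zero, Matrix.mul_zero, Matrix.zero_mul, add_zero, zero_add,
      Matrix.mul_one, Matrix.one_mul, Matrix.transpose_sub, Matrix.transpose_neg,
      Matrix.transpose_one, Matrix.transpose_transpose]
    abel

theorem nilp_lagD {N : Matrix (Fin k) (Fin k) F} (hN : IsNilpotent N) :
    IsNilpotent (lagD N * lagD N + lagD N) := by
  have hc : IsNilpotent (N * N + N) := by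
    have : N * N + N = N * (N + 1) := by rw [Matrix.mul_add, Matrix.mul_one]
    rw [this]
    exact Commute.isNilpotent_mul_right ((Commute.refl N).add_right (Commute.one_right N)) hN
  obtain ⟨i, hi⟩ := hc
  have e22 : (-1 - Nᵀ) * (-1 - Nᵀ) + (-1 - Nᵀ) = (N * N + N)ᵀ := by
    rw [Matrix.transpose_add, Matrix.transpose_mul]
    noncomm_ring
  have e : lagD N * lagD N + lagD N = Matrix.fromBlocks (N * N + N) 0 0 ((N * N + N)ᵀ) := by
    unfold lagD
    rw [Matrix.fromBlocks_multiply, Matrix.fromBlocks_add, ← e22]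
    simp
  refine ⟨i, ?_⟩
  rw [e, fromBlocks_diag_pow, hi, ← Matrix.transpose_pow, hi]
  simp [Matrix.fromBlocks_zero]

theorem isUnit_lag22 {N : Matrix (Fin k) (Fin k) F} (hN : IsNilpotent N) :
    IsUnit (-1 - Nᵀ) := by
  have h1 : IsNilpotent Nᵀ := by
    obtain ⟨i, hi⟩ := hN
    exact ⟨i, by rw [← Matrix.transpose_pow, hi]; simp⟩
  have : (-1 - Nᵀ : Matrix (Fin k) (Fin k) F) = -(Nᵀ + 1) := by abel
  rw [this]
  exact h1.isUnit_add_one.neg

/-- transpose-inverse in `GL` -/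
def tinvGL (Q : GL (Fin k) F) : GL (Fin k) F :=
  ⟨(Q⁻¹).valᵀ, Q.valᵀ, by rw [← Matrix.transpose_mul, Units.mul_inv, Matrix.transpose_one],
    by rw [← Matrix.transpose_mul, Units.inv_mul, Matrix.transpose_one]⟩

theorem tinvGL_val (Q : GL (Fin k) F) : (tinvGL Q).val = (Q⁻¹).valᵀ := rfl

theorem lagGL_val (Q : GL (Fin k) F) :
    (diagGL Q (tinvGL Q)).val = Matrix.fromBlocks Q.val 0 0 (Q⁻¹).valᵀ := rfl

theorem isom_lagGL (Q : GL (Fin k) F) :
    Isom (Matrix.J (Fin k) F) (diagGL Q (tinvGL Q)).val := by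
  rw [lagGL_val]
  unfold Isom Matrix.J
  have e1 : Q.valᵀ * (Q⁻¹).valᵀ = 1 := by
    rw [← Matrix.transpose_mul, Units.inv_mul, Matrix.transpose_one]
  have e2 : (Q⁻¹).val * Q.val = 1 := Units.inv_mul Q
  rw [Matrix.fromBlocks_transpose, Matrix.fromBlocks_multiply, Matrix.fromBlocks_multiply,
    Matrix.fromBlocks_inj]
  refine ⟨by simp, ?_, ?_, by simp⟩
  · simp only [Matrix.transpose_zero, Matrix.mul_zero, Matrix.zero_mul, add_zero, zero_add,
      Matrix.mul_neg, Matrix.mul_one, Matrix.neg_mul, e1]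
  · simp only [Matrix.transpose_zero, Matrix.mul_zero, Matrix.zero_mul, add_zero, zero_add,
      Matrix.mul_one, Matrix.transpose_transpose, e2]

theorem lagD_mul_lagGL (N : Matrix (Fin k) (Fin k) F) (Q : GL (Fin k) F) :
    lagD N * (diagGL Q (tinvGL Q)).val =
      (diagGL Q (tinvGL Q)).val * lagD ((Q⁻¹).val * N * Q.val) := by
  rw [lagGL_val]
  unfold lagD
  have e1 : (Q⁻¹).valᵀ * Q.valᵀ = 1 := by
    rw [← Matrix.transpose_mul, Units.mul_inv, Matrix.transpose_one]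
  have e2 : Q.val * (Q⁻¹).val = 1 := Units.mul_inv Q
  have e11 : N * Q.val = Q.val * ((Q⁻¹).val * N * Q.val) := by
    rw [← Matrix.mul_assoc, ← Matrix.mul_assoc, e2, Matrix.one_mul]
  have e22 : (-1 - Nᵀ) * (Q⁻¹).valᵀ =
      (Q⁻¹).valᵀ * (-1 - ((Q⁻¹).val * N * Q.val)ᵀ) := by
    rw [Matrix.transpose_mul, Matrix.transpose_mul, Matrix.mul_sub, ← Matrix.mul_assoc,
      ← Matrix.mul_assoc, e1, Matrix.one_mul, Matrix.sub_mul]
    simp
  rw [Matrix.fromBlocks_multiply, Matrix.fromBlocks_multiply, Matrix.fromBlocks_inj]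
  refine ⟨?_, by simp, by simp, ?_⟩
  · simp only [Matrix.mul_zero, add_zero]; exact e11
  · simp only [Matrix.mul_zero, Matrix.zero_mul, zero_add]; exact e22

theorem lag_blocks {Q₁ Q₂ : Matrix (Fin k) (Fin k) F}
    (h : Isom (Matrix.J (Fin k) F) (Matrix.fromBlocks Q₁ 0 0 Q₂)) : Q₁ᵀ * Q₂ = 1 := by
  unfold Isom Matrix.J at h
  rw [Matrix.fromBlocks_transpose, Matrix.fromBlocks_multiply, Matrix.fromBlocks_multiply,
    Matrix.fromBlocks_inj] at h
  obtain ⟨-, h12, -, -⟩ := h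
  simpa using h12

end

/-- [LAG] the double count. -/
theorem pkgLag_of (hLD : PkgLagDec.{u}) : PkgLag.{u} := by
  intro F _ _ k
  classical
  let XT : Type u := {x : {P : Matrix (Fin k ⊕ Fin k) (Fin k ⊕ Fin k) F //
      Isom (Matrix.J (Fin k) F) P} × Matrix (Fin k ⊕ Fin k) (Fin k ⊕ Fin k) F //
    ∃ N : Matrix (Fin k) (Fin k) F, IsNilpotent N ∧ x.2 * x.1.1 = x.1.1 * lagD N}
  -- first parametrisation
  let f₁ : {P : Matrix (Fin k ⊕ Fin k) (Fin k ⊕ Fin k) F // Isom (Matrix.J (Fin k) F) P} ×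
      {N : Matrix (Fin k) (Fin k) F // IsNilpotent N} → XT :=
    fun t => ⟨(t.1, t.1.1 * lagD t.2.1 * isoInv t.1.1), t.2.1, t.2.2, by
      show t.1.1 * lagD t.2.1 * isoInv t.1.1 * t.1.1 = t.1.1 * lagD t.2.1
      rw [Matrix.mul_assoc, isoInv_mul t.1.2, Matrix.mul_one]⟩
  have hf₁ : Function.Bijective f₁ := by
    constructor
    · rintro ⟨P, ⟨N, hN⟩⟩ ⟨P', ⟨N', hN'⟩⟩ hEq
      have h1 := congrArg (fun x : XT => x.1.1) hEq
      have h2 := congrArg (fun x : XT => x.1.2) hEq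
      simp only [f₁] at h1 h2
      subst h1
      have e : ∀ M, isoInv P.1 * (P.1 * lagD M * isoInv P.1) * P.1 = lagD M := by
        intro M
        calc isoInv P.1 * (P.1 * lagD M * isoInv P.1) * P.1
            = (isoInv P.1 * P.1) * lagD M * (isoInv P.1 * P.1) := by
              simp only [Matrix.mul_assoc]
          _ = lagD M := by rw [isoInv_mul P.2]; simp
      have h3 : lagD N = lagD N' := by
        have := congrArg (fun Z => isoInv P.1 * Z * P.1) h2
        rwa [e, e] at this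
      unfold lagD at h3
      rw [Matrix.fromBlocks_inj] at h3
      obtain ⟨hNN, -, -, -⟩ := h3
      subst hNN
      rfl
    · rintro ⟨⟨P, M⟩, N, hN, h⟩
      refine ⟨(P, ⟨N, hN⟩), ?_⟩
      apply Subtype.ext
      simp only [f₁]
      refine Prod.ext rfl ?_
      simp only
      rw [← h, Matrix.mul_assoc, mul_isoInv P.2, Matrix.mul_one]
  -- second parametrisation
  have hex : ∀ X : {X : Matrix (Fin k ⊕ Fin k) (Fin k ⊕ Fin k) F //
      AffA (Matrix.J (Fin k) F) X ∧ IsNilpotent (X * X + X)},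
      ∃ (P : GL (Fin k ⊕ Fin k) F) (N : Matrix (Fin k) (Fin k) F),
        Isom (Matrix.J (Fin k) F) P.val ∧ IsNilpotent N ∧ X.1 * P.val = P.val * lagD N :=
    fun X => hLD F k X.1 X.2.1 X.2.2
  choose P₀ N₀ hI₀ hN₀ hPD using hex
  let f₂ : {X : Matrix (Fin k ⊕ Fin k) (Fin k ⊕ Fin k) F //
      AffA (Matrix.J (Fin k) F) X ∧ IsNilpotent (X * X + X)} × GL (Fin k) F → XT :=
    fun t => ⟨(⟨(P₀ t.1).val * (diagGL t.2 (tinvGL t.2)).val,
        isom_mul_h73 (hI₀ t.1) (isom_lagGL t.2)⟩, t.1.1),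
      (t.2⁻¹).val * N₀ t.1 * t.2.val, by
        obtain ⟨i, hi⟩ := hN₀ t.1
        exact ⟨i, by rw [Units.conj_pow', hi, Matrix.mul_zero, Matrix.zero_mul]⟩, by
        show t.1.1 * ((P₀ t.1).val * (diagGL t.2 (tinvGL t.2)).val) =
          (P₀ t.1).val * (diagGL t.2 (tinvGL t.2)).val *
            lagD ((t.2⁻¹).val * N₀ t.1 * t.2.val)
        calc t.1.1 * ((P₀ t.1).val * (diagGL t.2 (tinvGL t.2)).val)
            = (t.1.1 * (P₀ t.1).val) * (diagGL t.2 (tinvGL t.2)).val := by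
              rw [Matrix.mul_assoc]
          _ = (P₀ t.1).val * (lagD (N₀ t.1) * (diagGL t.2 (tinvGL t.2)).val) := by
              rw [hPD t.1, Matrix.mul_assoc]
          _ = (P₀ t.1).val * (diagGL t.2 (tinvGL t.2)).val *
                lagD ((t.2⁻¹).val * N₀ t.1 * t.2.val) := by
              rw [lagD_mul_lagGL, ← Matrix.mul_assoc]⟩
  have hf₂ : Function.Bijective f₂ := by
    constructor
    · rintro ⟨X, Q⟩ ⟨X', Q'⟩ hEq
      have h1 := congrArg (fun x : XT => x.1.1.1) hEq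
      have h2 := congrArg (fun x : XT => x.1.2) hEq
      simp only [f₂] at h1 h2
      have hX : X = X' := Subtype.ext h2
      subst hX
      have e : ∀ Z, ((P₀ X)⁻¹).val * ((P₀ X).val * Z) = Z := by
        intro Z; rw [← Matrix.mul_assoc, Units.inv_mul, Matrix.one_mul]
      have h3 : (diagGL Q (tinvGL Q)).val = (diagGL Q' (tinvGL Q')).val := by
        have := congrArg (fun Z => ((P₀ X)⁻¹).val * Z) h1
        simp only [e] at this
        exact this
      rw [lagGL_val, lagGL_val, Matrix.fromBlocks_inj] at h3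
      obtain ⟨h5, -, -, -⟩ := h3
      have e1 : Q = Q' := Units.ext h5
      rw [e1]
    · rintro ⟨⟨⟨P, hP⟩, M⟩, N, hN, h⟩
      replace h : M * P = P * lagD N := h
      have hA : AffA (Matrix.J (Fin k) F) M :=
        affA_of_semiconj_h73 hP (mul_isoInv hP) (affA_lagD N) h
      have hNil : IsNilpotent (M * M + M) :=
        nilp_of_semiconj_h73 (mul_isoInv hP) (nilp_lagD hN) h
      obtain ⟨x, hx⟩ : ∃ x : {X : Matrix (Fin k ⊕ Fin k) (Fin k ⊕ Fin k) F //
          AffA (Matrix.J (Fin k) F) X ∧ IsNilpotent (X * X + X)}, x.1 = M := ⟨⟨M, hA, hNil⟩, rfl⟩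
      let PG : GL (Fin k ⊕ Fin k) F := ⟨P, isoInv P, mul_isoInv hP, isoInv_mul hP⟩
      have hPG : PG.val = P := rfl
      have h0 : M * (P₀ x).val = (P₀ x).val * lagD (N₀ x) := by
        have := hPD x
        rwa [hx] at this
      have hR : lagD (N₀ x) * ((P₀ x)⁻¹ * PG).val = ((P₀ x)⁻¹ * PG).val * lagD N := by
        have h1 : lagD (N₀ x) * ((P₀ x)⁻¹).val = ((P₀ x)⁻¹).val * M := by
          calc lagD (N₀ x) * ((P₀ x)⁻¹).val
              = ((P₀ x)⁻¹).val * ((P₀ x).val * lagD (N₀ x)) * ((P₀ x)⁻¹).val := by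
                rw [← Matrix.mul_assoc, Units.inv_mul, Matrix.one_mul]
            _ = ((P₀ x)⁻¹).val * (M * (P₀ x).val) * ((P₀ x)⁻¹).val := by rw [h0]
            _ = ((P₀ x)⁻¹).val * M := by
                rw [Matrix.mul_assoc, Matrix.mul_assoc, Units.mul_inv, Matrix.mul_one]
        rw [Units.val_mul, ← Matrix.mul_assoc, h1, hPG, Matrix.mul_assoc, h, Matrix.mul_assoc]
      obtain ⟨Q₁, Q₂, hQ⟩ := fitting_rigid (N₀ x) N (-1 - (N₀ x)ᵀ) (-1 - Nᵀ) (hN₀ x) hN
        (isUnit_lag22 (hN₀ x)) (isUnit_lag22 hN) ((P₀ x)⁻¹ * PG) hR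
      have hRi : Isom (Matrix.J (Fin k) F) ((P₀ x)⁻¹ * PG).val := by
        rw [Units.val_mul]
        exact isom_mul_h73 (isom_of_mul_eq_one_h73 (hI₀ x) (Units.mul_inv _)) hP
      rw [hQ] at hRi
      have hQ12 := lag_blocks hRi
      have hQ2 : Q₂.val = (Q₁⁻¹).valᵀ := by
        calc Q₂.val = ((Q₁⁻¹).valᵀ * Q₁.valᵀ) * Q₂.val := by
              rw [← Matrix.transpose_mul, Units.mul_inv]; simp
          _ = (Q₁⁻¹).valᵀ := by rw [Matrix.mul_assoc, hQ12, Matrix.mul_one]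
      refine ⟨(x, Q₁), ?_⟩
      apply Subtype.ext
      simp only [f₂]
      refine Prod.ext ?_ hx
      apply Subtype.ext
      show (P₀ x).val * (diagGL Q₁ (tinvGL Q₁)).val = P
      have e : (diagGL Q₁ (tinvGL Q₁)).val = ((P₀ x)⁻¹ * PG).val := by
        rw [hQ, lagGL_val, hQ2]
      rw [e, Units.val_mul, ← Matrix.mul_assoc, Units.mul_inv, Matrix.one_mul]
  have c1 := Nat.card_eq_of_bijective f₁ hf₁
  have c2 := Nat.card_eq_of_bijective f₂ hf₂
  rw [Nat.card_prod] at c1 c2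
  show cT (Matrix.J (Fin k) F) * Nat.card (GL (Fin k) F) =
    cI (Matrix.J (Fin k) F) * nilCount F k
  unfold cT cI nilCount
  rw [c2, c1]

end Cfsg.Agent.Lib.Helper73.SPU
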